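import Groth.Agent.L05.PointBlowArith.Exceptional
import Groth.Agent.L05.GeomMult.Components
import Groth.Agent.L05.ExcCurve.Main
import Groth.Agent.L05.InterPair.Model
import Groth.Agent.L16.ProjSpace.Sections
import Groth.Agent.L03.BlowPt.Factor
import Groth.Agent.L15.CohFlat

/-!
# Numerical invariants of the exceptional curve on an arithmetic surface
-/

set_option autoImplicit false
set_option linter.style.haveILetI false
set_option backward.isDefEq.respectTransparency false

universe u

open CategoryTheory CategoryTheory.Limits AlgebraicGeometry TopologicalSpace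

noncomputable section

namespace Groth.L05.PointBlowArith

variable {R : Type u} [CommRing R] [IsDomain R] [IsDiscreteValuationRing R]

local notation "κ" => IsLocalRing.ResidueField R

/-- Closed points of the closed fibre of a surface have two-dimensional local rings. -/
theorem dim_stalk_eq_two (Y : Over (Spec (CommRingCat.of R))) [IsIntegral Y.left] [IsProper Y.hom] [Flat Y.hom]
    (hdim : topologicalKrullDim Y.left = 2) (y : Y.left) (hy : IsClosed ({y} : Set Y.left))
    (hys : Y.hom y = IsLocalRing.closedPoint R) : ringKrullDim (Y.left.presheaf.stalk y) = (2 : ℕ) := by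
  refine le_antisymm ((Groth.L15.CohFlat.ringKrullDim_stalk_le y).trans hdim.le) ?_
  let P := pullback Y.hom (Groth.L05.GeomMult.pt R)
  let j := pullback.fst Y.hom (Groth.L05.GeomMult.pt R)
  obtain ⟨a, ha⟩ : y ∈ Set.range j := by rw [Groth.L05.GeomMult.range_fst_eq]; exact hys
  obtain ⟨C, hC, haC⟩ : ∃ C ∈ irreducibleComponents P, a ∈ C :=
    ⟨irreducibleComponent a, irreducibleComponent_mem_irreducibleComponents a, mem_irreducibleComponent⟩
  obtain ⟨w, hw⟩ := QuasiSober.sober hC.1 (isClosed_of_mem_irreducibleComponents C hC)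
  have hwy : j w ⤳ y := ha ▸ (hw.specializes haC).map j.continuous
  have hne : j w ≠ y := fun h => by
    have hwa : w = a := j.isClosedEmbedding.injective (h.trans ha.symm)
    have hsub : C ⊆ {w} := fun c hc => by
      have h1 : j w ⤳ j c := (hw.specializes hc).map j.continuous
      exact j.isClosedEmbedding.injective ((h1.mem_closed hy h).trans h.symm)
    haveI : Subsingleton C := ⟨fun p q => Subtype.ext ((hsub p.2).trans (hsub q.2).symm)⟩
    haveI : DiscreteTopology C := Subsingleton.discreteTopology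
    have h0 := topologicalKrullDim_zero_of_discreteTopology C
    rw [Groth.L05.GeomMult.dim_component hdim hC] at h0
    exact absurd h0 (by norm_num)
  have hgw : genericPoint Y.left ≠ j w := fun h => by
    have hj : Y.hom (genericPoint Y.left) = IsLocalRing.closedPoint R := by
      rw [h]
      have : j w ∈ Set.range j := ⟨w, rfl⟩
      rw [Groth.L05.GeomMult.range_fst_eq] at this
      exact this
    obtain ⟨x, hx, hx'⟩ := Flat.generalizingMap Y.hom
      ((PrimeSpectrum.le_iff_specializes (⊥ : PrimeSpectrum R) _).1 bot_le : (⊥ : PrimeSpectrum R) ⤳ Y.hom (genericPoint Y.left))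
    rw [(hx.antisymm (genericPoint_specializes x)).eq, hj] at hx'
    exact IsDiscreteValuationRing.not_a_field R (congrArg PrimeSpectrum.asIdeal hx')
  have h1 := Groth.L03.BlowPt.Factor.dim_add_one_le (genericPoint_specializes (j w)) hgw
  have h2 := Groth.L03.BlowPt.Factor.dim_add_one_le hwy hne
  have h0 : (0 : WithBot ℕ∞) ≤ ringKrullDim (Y.left.presheaf.stalk (genericPoint Y.left)) := ringKrullDim_nonneg_of_nontrivial
  calc ((2 : ℕ) : WithBot ℕ∞) = 0 + 1 + 1 := by norm_num
    _ ≤ _ := (add_le_add ((add_le_add h0 le_rfl).trans h1) le_rfl).trans h2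

theorem toGlobal_comp_Spec {A B : Type u} [CommRing A] [CommRing B] {Z : Scheme.{u}}
    (g : Z ⟶ Spec (CommRingCat.of B)) (φ : A →+* B) :
    Coh.toGlobal (g ≫ Spec.map (CommRingCat.ofHom φ)) = (Coh.toGlobal g).comp φ := by
  ext a
  have h := congr($(Scheme.ΓSpecIso_inv_naturality (CommRingCat.ofHom φ)) a)
  show (g ≫ Spec.map (CommRingCat.ofHom φ)).appTop _ = g.appTop _
  rw [Scheme.Hom.comp_appTop]
  exact congrArg g.appTop h.symm

theorem toGlobal_comp {A : Type u} [CommRing A] {Z Z' : Scheme.{u}} (i : Z ⟶ Z')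
    (g : Z' ⟶ Spec (CommRingCat.of A)) :
    Coh.toGlobal (i ≫ g) = i.appTop.hom.comp (Coh.toGlobal g) := by
  ext a
  show (i ≫ g).appTop _ = i.appTop (g.appTop _)
  rw [Scheme.Hom.comp_appTop]
  rfl

/-- The dimension of the constants of a curve isomorphic to the projective line over a residue field. -/
theorem length_residueField_eq_wdeg (X : Over (Spec (CommRingCat.of R))) (Γ : ArSurf.VertComp R X)
    (Y : Over (Spec (CommRingCat.of R))) (f : X.left ⟶ Y.left) (hf : f ≫ Y.hom = X.hom) (y : Y.left)
    [Module.Finite (IsLocalRing.ResidueField R) (Coh.HH Γ.curve.left (Coh.structureModule Γ.curve.left) 0)]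
    (e : CohB1.ProjSpace 1 (Y.left.residueField y) ≅ Γ.curve.left)
    (he : e.hom ≫ Γ.ι ≫ f = CohB1.ProjSpace.toSpec 1 (Y.left.residueField y) ≫ Y.left.fromSpecResidueField y) :
    letI : Algebra R (Y.left.residueField y) := ((Y.left.residue y).hom.comp (Models.stalkHom R Y y)).toAlgebra
    Module.length R (Y.left.residueField y) = (Models.wdeg R X Γ : ℕ∞) := by
  let K := Y.left.residueField y
  let η := (Y.left.residue y).hom.comp (Models.stalkHom R Y y)
  have hη : Y.left.fromSpecResidueField y ≫ Y.hom = Spec.map (CommRingCat.ofHom η) := by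
    rw [Scheme.fromSpecResidueField, Category.assoc]
    have : Y.left.fromSpecStalk y ≫ Y.hom = Spec.map (CommRingCat.ofHom (Models.stalkHom R Y y)) := by
      have hY : Y.left.toSpecΓ ≫ Spec.map (CommRingCat.ofHom (Coh.toGlobal Y.hom)) = Y.hom := by
        refine ext_of_isAffine ?_
        show (Y.left.toSpecΓ ≫ _).appTop = _
        rw [Scheme.Hom.comp_appTop, Scheme.toSpecΓ_appTop, Scheme.ΓSpecIso_naturality]
        ext a
        obtain ⟨a, rfl⟩ := (Scheme.ΓSpecIso (CommRingCat.of R)).symm.commRingCatIsoToRingEquiv.surjective a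
        show Coh.toGlobal Y.hom ((Scheme.ΓSpecIso (CommRingCat.of R)).hom ((Scheme.ΓSpecIso (CommRingCat.of R)).inv a)) = _
        rw [show (Scheme.ΓSpecIso (CommRingCat.of R)).hom ((Scheme.ΓSpecIso (CommRingCat.of R)).inv a) = a from
          congr($((Scheme.ΓSpecIso (CommRingCat.of R)).inv_hom_id) a)]
        rfl
      have h := congrArg (Y.left.fromSpecStalk y ≫ ·) hY
      rw [Scheme.fromSpecStalk_toSpecΓ_assoc, ← Spec.map_comp] at h
      exact h.symm
    rw [this, ← Spec.map_comp]
    rfl
  let s := CohB1.ProjSpace.toSpec 1 K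
  let χ : Γ(Γ.curve.left, ⊤) ≃+* K :=
    (asIso e.hom.appTop).commRingCatIsoToRingEquiv.trans (RingEquiv.ofBijective (Coh.toGlobal s)
      (Groth.L16.ProjSpace.toGlobal_bijective (n := 1) (R := K))).symm
  let g := Coh.toGlobal Γ.curve.hom
  have hχ : ∀ r : R, χ (g (IsLocalRing.residue R r)) = η r := by
    intro r
    have h : Coh.toGlobal (e.hom ≫ Γ.curve.hom ≫ Spec.map (CommRingCat.ofHom (IsLocalRing.residue R))) =
        Coh.toGlobal (s ≫ Spec.map (CommRingCat.ofHom η)) := by
      rw [← Γ.w, ← hf, reassoc_of% he, hη]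
    rw [toGlobal_comp, toGlobal_comp_Spec, toGlobal_comp_Spec] at h
    have h' := RingHom.congr_fun h r
    exact (RingEquiv.ofBijective (Coh.toGlobal s) (Groth.L16.ProjSpace.toGlobal_bijective (n := 1) (R := K))).symm_apply_eq.2 h'
  let T := Γ.curve.left
  let hT : IsTerminal (⊤ : TopologicalSpace.Opens T) :=
    IsTerminal.ofUniqueHom (fun U => homOfLE le_top) (fun _ _ => rfl)
  let F := Coh.toAb (Coh.structureModule T)
  let e₀ : Coh.HH T (Coh.structureModule T) 0 ≃+ Γ(T, ⊤) := Sheaf.H.equiv₀ F hT
  have he₀ : ∀ (c : IsLocalRing.ResidueField R) x, e₀ (c • x) = @HMul.hMul Γ(T, ⊤) Γ(T, ⊤) Γ(T, ⊤) _ (g c) (e₀ x) := fun c x => by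
    show Sheaf.H.equiv₀ F hT (Sheaf.H.map (Coh.smulAb (Coh.structureModule T) _) 0 x) = _
    rw [← Sheaf.H.equiv₀_naturality]
    refine (Coh.smulAb_app (Coh.structureModule T) _ (Opposite.op ⊤) _).trans ?_
    show Coh.resTop T (Opposite.op ⊤) _ * _ = _
    congr 1
    simp [Coh.resTop, g, Coh.toGlobal]
    rfl
  letI iA : Algebra R K := η.toAlgebra
  letI : Module R (Coh.HH T (Coh.structureModule T) 0) :=
    Module.compHom _ (IsLocalRing.residue R)
  haveI : IsScalarTower R (IsLocalRing.ResidueField R) (Coh.HH T (Coh.structureModule T) 0) :=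
    IsScalarTower.of_algebraMap_smul fun _ _ => rfl
  let el : Coh.HH T (Coh.structureModule T) 0 ≃ₗ[R] K :=
    { e₀.trans χ.toAddEquiv with
      map_smul' := fun r x => by
        show χ (e₀ (IsLocalRing.residue R r • x)) = η r * χ (e₀ x)
        rw [he₀, map_mul, hχ] }
  rw [← el.length_eq, Module.length_eq_of_surjective (S := R) (R := IsLocalRing.ResidueField R)
    (M := Coh.HH T (Coh.structureModule T) 0) Ideal.Quotient.mk_surjective]
  exact Module.length_eq_finrank _ _

end Groth.L05.PointBlowArith
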