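import Groth.Prelude.Def_ArSurf
import Groth.Agent.L03.BlowPt.Factor
import Groth.Agent.L03.BlowPt.RegularUp
import Groth.Agent.L13.BlowUp.Exists
import Groth.Agent.L13.BlowUp.Proper
import Groth.Agent.L13.Contraction.Basic
import Groth.Agent.L16.Blow.Integral
import Groth.Agent.L15.CohFlat
import Groth.Agent.L20.QfCurve
import Groth.Agent.L05.SmoothRelMin.Main
import Groth.Agent.S2415

/-!
# Birational morphisms of regular surfaces with an irreducible exceptional fibre
-/

set_option autoImplicit false
set_option linter.style.haveILetI false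
set_option backward.isDefEq.respectTransparency false

universe u

open CategoryTheory CategoryTheory.Limits AlgebraicGeometry TopologicalSpace Topology

noncomputable section

namespace Groth.L05.PointBlowArith

theorem eq_of_isIso_restrict {X Y : Scheme.{u}} (f : X ⟶ Y) (V : Y.Opens) [IsIso (f ∣_ V)] {a c : X}
    (ha : f a ∈ V) (hac : f a = f c) : a = c := by
  have hc : f c ∈ V := hac ▸ ha
  refine congrArg Subtype.val ((f ∣_ V).homeomorph.injective (a₁ := ⟨a, ha⟩) (a₂ := ⟨c, hc⟩) (Subtype.ext ?_))
  show ((f ∣_ V) ⟨a, ha⟩).1 = ((f ∣_ V) ⟨c, hc⟩).1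
  rw [morphismRestrict_base_coe, morphismRestrict_base_coe]
  exact hac

variable {X Y : Scheme.{u}} [IsIntegral X] [IsIntegral Y] [IsLocallyNoetherian X] [IsNoetherian Y]
  (f : X ⟶ Y) [IsProper f]

/-- A proper birational morphism of regular surfaces with irreducible fibre over one point and an
isomorphism elsewhere is the blow-up of that point. -/
theorem isBlowUp_of_irreducible_fibre (hX : ∀ x : X, IsRegularLocalRing (X.presheaf.stalk x))
    (hY : ∀ y : Y, IsRegularLocalRing (Y.presheaf.stalk y))
    (hdX : topologicalKrullDim X ≤ 2) (hdY : topologicalKrullDim Y ≤ 2)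
    {y : Y} (hy : IsClosed ({y} : Set Y))
    (hiso : IsIso (f ∣_ (⟨{y}ᶜ, hy.isOpen_compl⟩ : Y.Opens)))
    (hgen : genericPoint Y ≠ y) (hd : ringKrullDim (Y.presheaf.stalk y) = (2 : ℕ))
    (hirr : IsPreirreducible (f ⁻¹' {y}))
    (hbig : ∃ x x' : X, x ≠ x' ∧ f x = y ∧ f x' = y) :
    BlowUp.IsBlowUp f (Scheme.IdealSheafData.vanishingIdeal ⟨{y}, hy⟩) := by
  classical
  haveI := hiso
  let W : Y.Opens := ⟨{y}ᶜ, hy.isOpen_compl⟩
  have hbir : ∃ V : Y.Opens, (V : Set Y).Nonempty ∧ IsIso (f ∣_ V) := ⟨W, ⟨_, hgen⟩, hiso⟩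
  obtain ⟨Y', b, hb⟩ := Groth.L13.BU.exists_isBlowUp (Scheme.IdealSheafData.vanishingIdeal ⟨{y}, hy⟩)
  obtain ⟨g, hg⟩ := Groth.L03.BlowPt.Factor.exists_factor f hX hY hdX hdY hbir hy (fun V hyV hV => by
    obtain ⟨a, c, hac, ha, hc⟩ := hbig
    haveI := hV
    exact hac (eq_of_isIso_restrict f V (by rw [ha]; exact hyV) (ha.trans hc.symm))) hb
  have hI : Groth.L03.BlowPt.ptI hy ≠ ⊥ := fun h => hgen (by
    have h1 : ({y} : Set Y) = Set.univ := by
      have := congrArg (fun I : Y.IdealSheafData => (I.support : Set Y)) h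
      simpa [Groth.L03.BlowPt.ptI] using this
    exact Set.mem_singleton_iff.1 (h1 ▸ Set.mem_univ (genericPoint Y)))
  obtain ⟨_, he, hbiso⟩ := Groth.L16.Blow.isIntegral_and_birational hb hI
  obtain ⟨D⟩ := Groth.L03.BlowPt.exists_echart hb (hY y) hd
  haveI := D.isIntegral
  haveI : IsProper b := Groth.L13.BU.isProper_blowUp hb fun U =>
    haveI : IsNoetherianRing Γ(Y, U.1) := IsLocallyNoetherian.component_noetherian U
    IsNoetherian.noetherian _
  haveI : IsLocallyNoetherian Y' := LocallyOfFiniteType.isLocallyNoetherian b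
  haveI : IsProper (g ≫ b) := by rw [hg]; infer_instance
  haveI : IsProper g := IsProper.of_comp g b
  have hgb : ∀ x, b (g x) = f x := fun x => by rw [← Scheme.Hom.comp_apply, hg]
  -- the blow-up is an isomorphism off the centre
  have hinj : ∀ z z' : Y', b z = b z' → b z ≠ y → z = z' := fun z z' hzz hz => by
    let C : Y.Opens := (Scheme.IdealSheafData.vanishingIdeal (⟨{y}, hy⟩ : Closeds Y)).support.compl
    haveI := Groth.L22.Ideals.isIso_restrict_compl hb
    have hmem : ∀ w : Y', b w ≠ y → w ∈ b ⁻¹ᵁ C := fun w hw h => hw (by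
      have h' : b w ∈ ((Scheme.IdealSheafData.vanishingIdeal (⟨{y}, hy⟩ : Closeds Y)).support : Set Y) := h
      simpa using h')
    exact eq_of_isIso_restrict b C (hmem z hz) hzz
  have hfinj : ∀ x x' : X, f x = f x' → f x ≠ y → x = x' := fun x x' hxx hx =>
    eq_of_isIso_restrict f W hx hxx
  obtain ⟨ξX, hξf⟩ : ∃ x : X, f x = genericPoint Y := by
    obtain ⟨x, hx⟩ := (f ∣_ W).surjective ⟨genericPoint Y, hgen⟩
    exact ⟨x.1, by rw [← morphismRestrict_base_coe, hx]⟩
  have hgξ : g ξX = genericPoint Y' := hinj _ _ (by rw [hgb, hξf, he]) (by rw [hgb, hξf]; exact hgen)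
  have hξ : g (genericPoint X) = genericPoint Y' :=
    (Specializes.antisymm (hgξ ▸ (genericPoint_specializes ξX).map g.continuous) (genericPoint_specializes _)).eq
  have hgsurj : Function.Surjective g := fun z => by
    have h := (genericPoint_specializes z).mem_closed g.isClosedMap.isClosed_range ⟨_, hξ⟩
    exact h
  -- the irreducible fibre
  let F : Set X := f ⁻¹' {y}
  have hFc : IsClosed F := hy.preimage f.continuous
  obtain ⟨ξ, hξF⟩ : ∃ ξ, IsGenericPoint ξ F := by
    obtain ⟨a, c, -, ha, -⟩ := hbig
    exact QuasiSober.sober ⟨⟨a, ha⟩, hirr⟩ hFc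
  have hξne : ξ ≠ genericPoint X := fun h => hgen (by
    have : f ξ = y := hξF.mem
    rw [← this, h]
    exact ((hξf ▸ (genericPoint_specializes ξX).map f.continuous).antisymm (genericPoint_specializes _)).eq.symm)
  have hclosed : ∀ x ∈ F, x ≠ ξ → ∀ d, x ⤳ d → d = x := fun x hx hne d hxd => by
    by_contra hdx
    exact hne (Groth.L05.SmoothRelMin.eq_of_chain hdX (genericPoint_specializes ξ) (hξF.specializes hx) hxd
      hξne.symm (fun h => hdx h.symm)).symm
  have hfin : ∀ z : Y', (g ⁻¹' {z}).Finite := by
    intro z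
    by_cases hz : b z = y
    · have hsub : g ⁻¹' {z} ⊆ F := fun x hx => by
        show f x = y
        rw [← hgb, show g x = z from hx, hz]
      by_cases hzc : ξ ∈ g ⁻¹' {z}
      · -- the fibre of the generic point of the exceptional curve
        obtain ⟨e₀, he₀⟩ : ∃ e₀ : Y', b e₀ = y ∧ ∃ d, e₀ ⤳ d ∧ d ≠ e₀ := by
          let j := Groth.L03.BlowPt.eι hy b
          obtain ⟨w, hw⟩ : ∃ w, w ≠ genericPoint (Groth.L03.BlowPt.exc hy b).subscheme := by
            by_contra hall
            push Not at hall
            haveI : Subsingleton (Groth.L03.BlowPt.exc hy b).subscheme := ⟨fun a c => (hall a).trans (hall c).symm⟩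
            haveI : DiscreteTopology (Groth.L03.BlowPt.exc hy b).subscheme := Subsingleton.discreteTopology
            have h0 := topologicalKrullDim_zero_of_discreteTopology (Groth.L03.BlowPt.exc hy b).subscheme
            rw [D.dim_eq] at h0
            exact absurd h0 (by norm_num)
          exact ⟨j (genericPoint _), Groth.L03.BlowPt.eι_apply _, j w, (genericPoint_specializes w).map j.continuous,
            fun h => hw (j.isClosedEmbedding.injective h)⟩
        obtain ⟨hbe, d, hed, hde⟩ := he₀
        obtain ⟨x₀, rfl⟩ := hgsurj e₀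
        have hx₀ : x₀ ∈ F := by show f x₀ = y; rw [← hgb, hbe]
        have hx₀ξ : x₀ = ξ := by
          by_contra hne
          have hcl : IsClosed (g '' closure {x₀}) := g.isClosedMap _ isClosed_closure
          obtain ⟨x₁, hx₁, hx₁d⟩ := hed.mem_closed hcl ⟨x₀, subset_closure rfl, rfl⟩
          exact hde (by rw [← hx₁d, hclosed x₀ hx₀ hne x₁ (specializes_iff_mem_closure.2 hx₁)])
        subst hx₀ξ
        refine (Set.finite_singleton x₀).subset fun x hx => ?_
        by_contra hne
        have hcl : IsClosed (g '' closure {x}) := g.isClosedMap _ isClosed_closure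
        have hzx : g x = g x₀ := (show g x = z from hx).trans (show g x₀ = z from hzc).symm
        obtain ⟨x₁, hx₁, hx₁d⟩ := hed.mem_closed hcl ⟨x, subset_closure rfl, hzx⟩
        exact hde (by rw [← hx₁d, hclosed x (hsub hx) hne x₁ (specializes_iff_mem_closure.2 hx₁), hzx])
      · -- closed points only
        let i := g.fiberι z
        haveI : LocallyOfFiniteType (g.fiberToSpecResidueField z) :=
          MorphismProperty.pullback_snd (P := @LocallyOfFiniteType) _ _ inferInstance
        haveI : IsLocallyNoetherian (g.fiber z) := LocallyOfFiniteType.isLocallyNoetherian (g.fiberToSpecResidueField z)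
        have hmem : ∀ a, g (i a) = z := fun a => by
          have h : i a ∈ Set.range i := ⟨a, rfl⟩
          rwa [Scheme.Hom.range_fiberι] at h
        have hcl : ∀ a, IsClosed ({a} : Set (g.fiber z)) ∧ ∀ c, c ⤳ a → c = a := fun a => by
          have hax : ∀ c, i c ≠ ξ := fun c h => hzc (by show g ξ = z; rw [← h]; exact hmem c)
          refine ⟨isClosed_iff_nhds.2 fun c hc => i.isEmbedding.injective
            (hclosed _ (hsub (hmem a)) (hax a) _ ((specializes_iff_mem_closure.2
              (mem_closure_iff_nhds.2 hc)).map i.continuous)), fun c hc => i.isEmbedding.injective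
            (hclosed _ (hsub (hmem c)) (hax c) _ (hc.map i.continuous)).symm⟩
        haveI : DiscreteTopology (g.fiber z) := discreteTopology_iff_singleton_mem_nhds.2 fun a =>
          (Groth.L20.QfCurve.isOpen_singleton (hcl a).1 (hcl a).2).mem_nhds rfl
        haveI : Finite (g.fiber z) := finite_of_compact_of_discrete
        rw [← g.range_fiberι z]
        exact Set.finite_range _
    · exact Set.Subsingleton.finite fun a ha c hc => hfinj a c
        (by rw [← hgb, ← hgb, show g a = z from ha, show g c = z from hc]) (by rw [← hgb, show g a = z from ha]; exact hz)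
  have hN : Pi1.IsNormalScheme Y' := fun z => by
    haveI := Groth.L03.BlowPt.regular_up D hb hY z
    haveI := Groth.L01.isDomain_of_regular (Y'.presheaf.stalk z)
    exact ⟨inferInstance, Groth.L03.RegularNormal.isIntegrallyClosed _⟩
  have hfW : genericPoint X ∈ f ⁻¹ᵁ W := by
    show f (genericPoint X) ≠ y
    rw [← hgb, hξ, he]; exact hgen
  have hfiso : IsIso (f.stalkMap (genericPoint X)) :=
    ((MorphismProperty.isomorphisms CommRingCat).arrow_mk_iso_iff (morphismRestrictStalkMap f W ⟨_, hfW⟩)).1
      (inferInstance : IsIso ((f ∣_ W).stalkMap ⟨_, hfW⟩))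
  have hbir' : IsIso (g.stalkMap (genericPoint X)) := by
    haveI : IsIso (b.stalkMap (g (genericPoint X))) := by rw [hξ]; exact hbiso
    subst hg
    rw [Scheme.Hom.stalkMap_comp] at hfiso
    haveI := hfiso
    exact IsIso.of_isIso_comp_left (b.stalkMap (g (genericPoint X))) _
  haveI : IsIso g := (Groth.Agent.S2415.result hN g hξ hbir' hfin).2 inferInstance
  have h := Groth.L13.Contraction.isBlowUp_of_iso_source (asIso g) hb
  rwa [asIso_hom, hg] at h

end Groth.L05.PointBlowArith
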