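import Groth.Prelude.Def_ModelsG
import Groth.Agent.L05.PointBlowArith.ExcP1
import Groth.Agent.L03.BlowPt.Except
import Groth.Agent.L13.BlowUp.Exists
import Groth.Agent.L16.ProjSpace.BaseChange
import Groth.Agent.L16.ProjSpace.PosFrames
import Groth.Agent.L07.PrinParts.GrBaseChange
import Groth.Agent.L23.SchKer
import Groth.Agent.L16.ProjSpace.Dim

/-!
# The exceptional curve of the blow-up of a regular point of dimension two
-/

set_option autoImplicit false
set_option linter.style.haveILetI false
set_option backward.isDefEq.respectTransparency false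

universe u

open CategoryTheory CategoryTheory.Limits AlgebraicGeometry TopologicalSpace
open Groth.L11.BlowSmooth Groth.L13.BU

noncomputable section

namespace Groth.L05.PointBlowArith

/-- Closed immersions of reduced schemes with the same image are isomorphic. -/
theorem ker_eq_of_range {X E E' : Scheme.{u}} (i : E ⟶ X) (j : E' ⟶ X) [IsClosedImmersion i] [IsClosedImmersion j]
    [IsReduced E] [IsReduced E'] (h : Set.range i = Set.range j) : i.ker = j.ker := by
  rw [Groth.L23.SchKer.ker_eq_vanishingIdeal i, Groth.L23.SchKer.ker_eq_vanishingIdeal j]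
  congr 1
  exact Closeds.ext (congrArg closure h)

variable {Y X : Scheme.{u}} [IsLocallyNoetherian Y] {y : Y} (hy : IsClosed ({y} : Set Y)) (b : X ⟶ Y)

theorem exists_exc_projLine (hb : BlowUp.IsBlowUp b (Scheme.IdealSheafData.vanishingIdeal ⟨{y}, hy⟩))
    (hreg : IsRegularLocalRing (Y.presheaf.stalk y)) (hd : ringKrullDim (Y.presheaf.stalk y) = (2 : ℕ))
    {E : Scheme.{u}} (ι : E ⟶ X) [IsClosedImmersion ι] [IsReduced E]
    (hrange : Set.range ι = b ⁻¹' {y}) :
    BlowUp.IsEffCartierIdeal ι.ker ∧ ∃ e : CohB1.ProjSpace 1 (Y.residueField y) ≅ E,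
      e.hom ≫ ι ≫ b = CohB1.ProjSpace.toSpec 1 (Y.residueField y) ≫ Y.fromSpecResidueField y ∧
      Nonempty ((Scheme.Modules.pullback (e.hom ≫ ι)).obj (ClSub.idealMod ι.ker) ≅
        Twist.twistProjSpace 1 (Y.residueField y) 1) := by
  obtain ⟨U, f, hyU, hf, hU⟩ := Groth.L03.BlowPt.exists_pair hy hreg hd
  let I := Scheme.IdealSheafData.vanishingIdeal (⟨{y}, hy⟩ : Closeds Y)
  let g := U.2.fromSpec
  let b₁ := pullback.fst g b
  let k := pullback.snd g b
  have hbk : k ≫ b = b₁ ≫ g := pullback.condition.symm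
  haveI : IsOpenImmersion k := inferInstance
  have hb₁ : BlowUp.IsBlowUp b₁ (idealOf (sI f)) := by
    have h := isBlowUp_pullback g hb
    rw [show I.comap g = idealOf (sI f) by rw [comap_fromSpec]; exact congrArg idealOf hU] at h
    exact h
  haveI hmax : (sI f).IsMaximal := hU ▸ Groth.L03.BlowPt.isMaximal_ptI hy U hyU
  letI : Field (Γ(Y, U.1) ⧸ sI f) := Ideal.Quotient.field _
  obtain ⟨e₀, he₀, ⟨τ⟩⟩ := exists_exceptional_over (n := 1) f b₁ hb₁ hf
  let k₀ := Γ(Y, U.1) ⧸ sI f
  let c := Spec.map (CommRingCat.ofHom (Ideal.Quotient.mk (sI f))) ≫ g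
  haveI hci : IsPreimmersion c := by
    haveI : IsClosedImmersion (Spec.map (CommRingCat.ofHom (Ideal.Quotient.mk (sI f)))) :=
      IsClosedImmersion.spec_of_surjective _ Ideal.Quotient.mk_surjective
    infer_instance
  have hc : ∀ z, c z = y := fun z => by
    let q := Spec.map (CommRingCat.ofHom (Ideal.Quotient.mk (sI f))) z
    have h1 : sI f ≤ q.asIdeal := fun a ha => by
      show Ideal.Quotient.mk (sI f) a ∈ z.asIdeal
      rw [Ideal.Quotient.eq_zero_iff_mem.2 ha]; exact zero_mem _
    let P := U.2.primeIdealOf ⟨y, hyU⟩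
    have hP : U.2.fromSpec P = y := U.2.fromSpec_primeIdealOf ⟨y, hyU⟩
    have hPI : P.asIdeal = sI f := by
      rw [← hU]
      show P.asIdeal = (Scheme.IdealSheafData.vanishingIdeal (⟨{y}, hy⟩ : Closeds Y)).ideal U
      rw [Scheme.IdealSheafData.vanishingIdeal_ideal]
      show P.asIdeal = PrimeSpectrum.vanishingIdeal (U.2.fromSpec.base ⁻¹' {y})
      rw [show U.2.fromSpec.base ⁻¹' {y} = {P} from Set.eq_singleton_iff_unique_mem.2
          ⟨hP, fun q hq => U.2.fromSpec.isOpenEmbedding.injective (hq.trans hP.symm)⟩,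
        PrimeSpectrum.vanishingIdeal_singleton]
    have hqP : q = P := PrimeSpectrum.ext ((hmax.eq_of_le q.isPrime.ne_top h1).symm.trans hPI.symm)
    show g q = y
    rw [hqP]; exact hP
  haveI : Nonempty (Spec (CommRingCat.of k₀)) := ⟨IsLocalRing.closedPoint k₀⟩
  have hcrange : Set.range c = {y} := Set.eq_singleton_iff_nonempty_unique_mem.2
    ⟨Set.range_nonempty _, by rintro _ ⟨z, rfl⟩; exact hc z⟩
  haveI : IsClosedImmersion c := IsClosedImmersion.of_isPreimmersion _ (by rw [hcrange]; exact hy)
  let d := Y.fromSpecResidueField y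
  haveI : IsClosedImmersion d :=
    IsClosedImmersion.of_isPreimmersion _ (by rw [Scheme.range_fromSpecResidueField]; exact hy)
  have hker : c.ker = d.ker := ker_eq_of_range c d (by rw [hcrange, Scheme.range_fromSpecResidueField])
  haveI := IsClosedImmersion.isIso_lift c d hker
  let φ : k₀ →+* Y.residueField y := (Spec.preimage (IsClosedImmersion.lift c d hker.le)).hom
  have hφ : Spec.map (CommRingCat.ofHom φ) ≫ c = d := by
    show Spec.map (Spec.preimage (IsClosedImmersion.lift c d hker.le)) ≫ c = d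
    rw [Spec.map_preimage, IsClosedImmersion.lift_fac]
  haveI : IsIso (Spec.map (CommRingCat.ofHom φ)) := by
    show IsIso (Spec.map (Spec.preimage (IsClosedImmersion.lift c d hker.le)))
    rw [Spec.map_preimage]; infer_instance
  let m := Groth.L16.ProjSpace.map 1 φ
  haveI : IsIso m := MorphismProperty.of_isPullback (P := MorphismProperty.isomorphisms Scheme.{u})
    (Groth.L16.ProjSpace.isPullback_map 1 φ).flip inferInstance
  have hm : m ≫ CohB1.ProjSpace.toSpec 1 k₀ =
      CohB1.ProjSpace.toSpec 1 (Y.residueField y) ≫ Spec.map (CommRingCat.ofHom φ) :=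
    (Groth.L16.ProjSpace.isPullback_map 1 φ).w
  let J := Groth.L13.BlowP1.exIdeal f b₁
  haveI : IsIntegral (CohB1.ProjSpace 1 k₀) := Groth.L16.ProjSpace.isIntegral (n := 1) (R := k₀)
  haveI : IsReduced (Groth.L18.PUP.P 1 k₀) := inferInstanceAs (IsReduced (CohB1.ProjSpace 1 k₀))
  haveI : IsReduced J.subscheme := isReduced_of_isOpenImmersion e₀.inv
  let j := J.subschemeι ≫ k
  have hJ : J = (BlowUp.exceptional b I).comap k := by
    show (idealOf (sI f)).comap b₁ = (I.comap b).comap k
    rw [← Scheme.IdealSheafData.comap_comp, hbk, Scheme.IdealSheafData.comap_comp, comap_fromSpec,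
      show idealOf (I.ideal U) = idealOf (sI f) from congrArg idealOf hU]
  have hrangej : Set.range j = b ⁻¹' {y} := by
    have hsupp : ∀ x : X, x ∈ ((BlowUp.exceptional b I).support : Set X) ↔ b x = y := fun x => by
      rw [show (BlowUp.exceptional b I).support = I.support.preimage b.continuous from
        Scheme.IdealSheafData.support_comap _ _]
      show b x ∈ (I.support : Set Y) ↔ _
      simp [I]
    ext x
    constructor
    · rintro ⟨z, rfl⟩
      have h : J.subschemeι z ∈ ((J.support : Closeds _) : Set _) := by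
        rw [← Scheme.IdealSheafData.range_subschemeι]; exact ⟨z, rfl⟩
      replace h : J.subschemeι z ∈ ((((BlowUp.exceptional b I).comap k).support : Closeds _) : Set _) := hJ ▸ h
      rw [Scheme.IdealSheafData.support_comap] at h
      exact (hsupp _).1 h
    · intro hx
      obtain ⟨w, rfl⟩ : x ∈ Set.range k := by
        rw [Scheme.Pullback.range_snd]
        show b x ∈ Set.range g
        rw [U.2.range_fromSpec, show b x = y from hx]; exact hyU
      obtain ⟨z, hz⟩ : w ∈ Set.range J.subschemeι := by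
        rw [Scheme.IdealSheafData.range_subschemeι, hJ, Scheme.IdealSheafData.support_comap]
        exact (hsupp _).2 hx
      exact ⟨z, by rw [← hz]; rfl⟩
  haveI : IsClosedImmersion j := IsClosedImmersion.of_isPreimmersion _ (by
    rw [hrangej]; exact hy.preimage b.continuous)
  have hkerι : ι.ker = j.ker := ker_eq_of_range ι j (hrange.trans hrangej.symm)
  haveI := IsClosedImmersion.isIso_lift ι j hkerι
  let l := IsClosedImmersion.lift ι j hkerι.le
  let e : CohB1.ProjSpace 1 (Y.residueField y) ≅ E := asIso m ≪≫ e₀ ≪≫ asIso l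
  have hel : e.hom ≫ ι = (m ≫ e₀.hom ≫ J.subschemeι) ≫ k := by
    simp only [e, Iso.trans_hom, asIso_hom, Category.assoc, l, IsClosedImmersion.lift_fac, j]
  have hkerE : ι.ker = BlowUp.exceptional b I := by
    obtain ⟨D⟩ := Groth.L03.BlowPt.exists_echart hb hreg hd
    haveI := D.isIntegral
    refine (ker_eq_of_range ι (Groth.L03.BlowPt.eι hy b) (hrange.trans ?_)).trans
      (Scheme.IdealSheafData.ker_subschemeι _)
    rw [Scheme.IdealSheafData.range_subschemeι, show (Groth.L03.BlowPt.exc hy b).support = I.support.preimage b.continuous from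
      Scheme.IdealSheafData.support_comap _ _]
    ext x
    show b x = y ↔ b x ∈ (I.support : Set Y)
    simp [I]
  refine ⟨hkerE ▸ hb.1, e, ?_, ?_⟩
  · rw [← Category.assoc, hel]
    simp only [Category.assoc, hbk]
    rw [reassoc_of% he₀, reassoc_of% hm]
    exact congrArg (CohB1.ProjSpace.toSpec 1 (Y.residueField y) ≫ ·) hφ
  · have hJ' : J = ι.ker.comap k := by rw [hkerE]; exact hJ
    obtain ⟨α, -, -, hα⟩ := Groth.L07.PrinParts.exists_idealMap k ι.ker J hJ'
    haveI := hα (Groth.L07.PrinParts.mono_pullback_idealι k _)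
    obtain ⟨t⟩ := Groth.L16.ProjSpace.nonempty_pullback_twist_iso 1 φ 1
    exact ⟨(Scheme.Modules.pullbackCongr hel).app _ ≪≫ ((Scheme.Modules.pullbackComp _ k).app _).symm ≪≫
      (Scheme.Modules.pullback _).mapIso (asIso α) ≪≫ ((Scheme.Modules.pullbackComp m _).app _).symm ≪≫
      (Scheme.Modules.pullback m).mapIso τ ≪≫ t⟩

end Groth.L05.PointBlowArith
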